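import Groth.Agent.S0002
import Groth.Agent.Lib.Snapper.Twist
import Groth.Agent.Lib.Curves.GlobalSections

/-!
# Global functions of a proper scheme over a Noetherian ring form a Noetherian ring
-/

universe u

open CategoryTheory AlgebraicGeometry Opposite TopologicalSpace

namespace Groth.Agent.Lib.PicSurj.Noeth

theorem isNoetherianRing_Γ (A : Type u) [CommRing A] [IsNoetherianRing A] {Z : Scheme.{u}}
    (g : Z ⟶ Spec (CommRingCat.of A)) [IsProper g] : IsNoetherianRing Γ(Z, ⊤) := by
  letI : Z.Over (Spec (CommRingCat.of A)) := ⟨g⟩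
  haveI : IsProper (Z ↘ Spec (CommRingCat.of A)) := ‹IsProper g›
  haveI : Module.Finite A (Coh.HH Z (Coh.structureModule Z) 0) :=
    S0002.result A Z _ (Snapper.Twist.isCoh_structureModule Z) 0
  letI := Curves.GlobalSections.secModule A (Coh.structureModule Z)
  have hfin : Module.Finite A ((Coh.structureModule Z).val.obj (op ⊤) : Type u) :=
    Module.Finite.equiv (Curves.GlobalSections.h0Linear A (Coh.structureModule Z))
  letI : Algebra A Γ(Z, ⊤) := (Coh.toGlobal (Z ↘ Spec (CommRingCat.of A))).toAlgebra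
  haveI : Module.Finite A Γ(Z, ⊤) := hfin
  exact IsNoetherianRing.of_finite A Γ(Z, ⊤)

end Groth.Agent.Lib.PicSurj.Noeth
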