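import Groth.Agent.Lib.PicSurj.Main
import Groth.Agent.Lib.Henselian.Unibranch
import Groth.Agent.H75.RedSub
import Mathlib.AlgebraicGeometry.Morphisms.Proper
import Mathlib.AlgebraicGeometry.Properties
import Mathlib.AlgebraicGeometry.Fiber
import Mathlib.Topology.Sheaves.SheafCondition.Sites

/-!
# Closed fibres of proper schemes over henselian local rings
-/

universe u

open CategoryTheory AlgebraicGeometry Opposite TopologicalSpace

namespace Groth.Agent.Lib.PicSurj.Connected

/-- `Y → Spec Γ(Y)` has `g_* O = O` for qcqs `Y`. -/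
theorem isIso_toSpecΓ_app (Y : Scheme.{u}) [CompactSpace Y] [QuasiSeparatedSpace Y]
    (U : (Spec Γ(Y, ⊤)).Opens) : IsIso (Y.toSpecΓ.app U) := by
  let B : Γ(Y, ⊤) → (Spec Γ(Y, ⊤)).Opens := PrimeSpectrum.basicOpen
  let G : TopCat.Sheaf CommRingCat (Spec Γ(Y, ⊤)) :=
    (TopCat.Sheaf.pushforward _ Y.toSpecΓ.base).obj Y.sheaf
  let φ : (Spec Γ(Y, ⊤)).sheaf ⟶ G := ⟨Y.toSpecΓ.c⟩
  haveI : IsIso φ := TopCat.Sheaf.isIso_iff_isIso_basis (B := B) PrimeSpectrum.isBasis_basic_opens
    fun r => inferInstanceAs (IsIso (Y.toSpecΓ.app (PrimeSpectrum.basicOpen r)))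
  haveI : IsIso φ.hom := inferInstanceAs (IsIso ((TopCat.Sheaf.forget _ _).map φ))
  exact inferInstanceAs (IsIso (φ.hom.app (op U)))

/-- The map to the global sections factors a morphism to an affine scheme. -/
theorem toSpecΓ_fac {A : Type u} [CommRing A] {Y : Scheme.{u}} (h : Y ⟶ Spec (CommRingCat.of A)) :
    Y.toSpecΓ ≫ Spec.map ((Scheme.ΓSpecIso (CommRingCat.of A)).inv ≫ h.appTop) = h := by
  rw [Spec.map_comp, ← Category.assoc, ← Scheme.toSpecΓ_naturality]
  simp [SpecMap_ΓSpecIso_hom]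

/-- The closed fibre of an integral scheme proper over a henselian local ring is connected, granted
that proper maps with `g_* O = O` have connected fibres. -/
theorem isConnected_closedFibre
    (conn : ∀ {Z S : Scheme.{u}} (g : Z ⟶ S) [IsProper g] [IsLocallyNoetherian S],
      (∀ U : S.Opens, IsIso (g.app U)) → ∀ s : S, ConnectedSpace (g.fiber s))
    {A : Type u} [CommRing A] [HenselianLocalRing A] {Y : Scheme.{u}} [IsIntegral Y]
    (h : Y ⟶ Spec (CommRingCat.of A)) [IsProper h] (hfin : IsNoetherianRing Γ(Y, ⊤)) :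
    _root_.IsConnected {z : Y | h z = IsLocalRing.closedPoint A} := by
  let φ : A →+* Γ(Y, ⊤) := ((Scheme.ΓSpecIso (CommRingCat.of A)).inv ≫ h.appTop).hom
  letI : Algebra A Γ(Y, ⊤) := φ.toAlgebra
  haveI : Algebra.IsIntegral A Γ(Y, ⊤) := ⟨fun x => by
    obtain ⟨p, hp, hpx⟩ := isIntegral_appTop_of_universallyClosed h x
    refine ⟨p.map (Scheme.ΓSpecIso (CommRingCat.of A)).hom.hom, hp.map _, ?_⟩
    rw [Polynomial.eval₂_map]
    convert hpx using 2
    ext a
    change h.appTop ((Scheme.ΓSpecIso (CommRingCat.of A)).inv ((Scheme.ΓSpecIso (CommRingCat.of A)).hom a)) = _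
    rw [Iso.hom_inv_id_apply]⟩
  haveI : IsLocalRing Γ(Y, ⊤) := Henselian.Unibranch.isLocalRing_of_isDomain A _
  haveI := hfin
  haveI : CompactSpace Y := QuasiCompact.compactSpace_of_compactSpace h
  haveI : QuasiSeparatedSpace Y := quasiSeparatedSpace_of_quasiSeparated h
  have hfac : Y.toSpecΓ ≫ Spec.map (CommRingCat.ofHom φ) = h := toSpecΓ_fac h
  haveI : IsProper Y.toSpecΓ := by
    haveI : IsProper (Y.toSpecΓ ≫ Spec.map (CommRingCat.ofHom φ)) := by rw [hfac]; infer_instance
    exact IsProper.of_comp Y.toSpecΓ (Spec.map (CommRingCat.ofHom φ))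
  haveI := conn Y.toSpecΓ (isIso_toSpecΓ_app Y) (IsLocalRing.closedPoint Γ(Y, ⊤))
  have hfib : ∀ z : Y, h z = IsLocalRing.closedPoint A ↔ Y.toSpecΓ z = IsLocalRing.closedPoint Γ(Y, ⊤) := by
    intro z
    have e : h z = PrimeSpectrum.comap φ (Y.toSpecΓ z) := by
      conv_lhs => rw [← hfac]
      rfl
    rw [e]
    constructor
    · intro hh
      refine PrimeSpectrum.ext (IsLocalRing.eq_maximalIdeal ?_)
      refine Ideal.isMaximal_of_isIntegral_of_isMaximal_comap (R := A) (Y.toSpecΓ z).asIdeal ?_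
      rw [show (Y.toSpecΓ z).asIdeal.comap (algebraMap A Γ(Y, ⊤)) = IsLocalRing.maximalIdeal A from
        congrArg PrimeSpectrum.asIdeal hh]
      infer_instance
    · intro hh
      rw [hh]
      refine PrimeSpectrum.ext (IsLocalRing.eq_maximalIdeal ?_)
      haveI := Ideal.isMaximal_comap_of_isIntegral_of_isMaximal (R := A) (IsLocalRing.maximalIdeal Γ(Y, ⊤))
      exact this
  have himage : Set.range (Y.toSpecΓ.fiberι (IsLocalRing.closedPoint Γ(Y, ⊤))).base =
      {z : Y | h z = IsLocalRing.closedPoint A} := by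
    refine (Scheme.Hom.range_fiberι _ _).trans ?_
    ext z
    exact (hfib z).symm
  rw [← himage]
  exact isConnected_range (Y.toSpecΓ.fiberι _).continuous

/-- Irreducible closed subsets meet the closed fibre in nonempty connected sets, granted the same. -/
theorem meetsConn
    (conn : ∀ {Z S : Scheme.{u}} (g : Z ⟶ S) [IsProper g] [IsLocallyNoetherian S],
      (∀ U : S.Opens, IsIso (g.app U)) → ∀ s : S, ConnectedSpace (g.fiber s))
    (fin : ∀ (A : Type u) [CommRing A] [IsNoetherianRing A] {Z : Scheme.{u}} (g : Z ⟶ Spec (CommRingCat.of A))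
      [IsProper g], IsNoetherianRing Γ(Z, ⊤))
    {A : Type u} [CommRing A] [IsNoetherianRing A] [HenselianLocalRing A] {X : Scheme.{u}}
    (f : X ⟶ Spec (CommRingCat.of A)) [IsProper f] (y : X) :
    _root_.IsConnected ((closure {y} : Set X) ∩ f.base ⁻¹' {IsLocalRing.closedPoint A}) := by
  let I := Scheme.IdealSheafData.vanishingIdeal (⟨closure {y}, isClosed_closure⟩ : Closeds X)
  let j : I.subscheme ⟶ X := I.subschemeι
  have hrange : Set.range j.base = closure {y} := by
    rw [Scheme.IdealSheafData.range_subschemeι, Scheme.IdealSheafData.coe_support_vanishingIdeal]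
    rfl
  haveI : AlgebraicGeometry.IsReduced I.subscheme := H75.RedSub.isReduced_vanishingIdeal _
  have hirr : IsIrreducible (Set.range j.base) := hrange ▸ isIrreducible_singleton.closure
  haveI : IrreducibleSpace I.subscheme := by
    haveI : Nonempty I.subscheme := ⟨hirr.nonempty.choose_spec.choose⟩
    haveI : PreirreducibleSpace I.subscheme := ⟨fun u v hu hv ⟨a, _, ha⟩ ⟨b, _, hb⟩ => by
      obtain ⟨u', hu', rfl⟩ := j.isClosedEmbedding.isInducing.isOpen_iff.1 hu
      obtain ⟨v', hv', rfl⟩ := j.isClosedEmbedding.isInducing.isOpen_iff.1 hv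
      obtain ⟨_, ⟨c, rfl⟩, hc⟩ := hirr.2 u' v' hu' hv' ⟨_, ⟨a, rfl⟩, ha⟩ ⟨_, ⟨b, rfl⟩, hb⟩
      exact ⟨c, trivial, hc⟩⟩
    exact ⟨inferInstance⟩
  haveI : IsIntegral I.subscheme := isIntegral_of_irreducibleSpace_of_isReduced _
  have h := isConnected_closedFibre conn (j ≫ f) (fin A (j ≫ f))
  have e : j.base '' {z | (j ≫ f) z = IsLocalRing.closedPoint A} =
      (closure {y} : Set X) ∩ f.base ⁻¹' {IsLocalRing.closedPoint A} := by
    ext x
    constructor
    · rintro ⟨z, hz, rfl⟩
      exact ⟨hrange ▸ ⟨z, rfl⟩, hz⟩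
    · rintro ⟨hx, hfx⟩
      rw [← hrange] at hx
      obtain ⟨z, rfl⟩ := hx
      exact ⟨z, hfx, rfl⟩
  rw [← e]
  exact h.image _ j.continuous.continuousOn

end Groth.Agent.Lib.PicSurj.Connected
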