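import Groth.Agent.Lib.TensorMod.FinsetTriv
import Groth.Agent.Lib.TensorMod.GenLocal
import Groth.Agent.Lib.Ample.GenLocus
import Mathlib.AlgebraicGeometry.Morphisms.ClosedImmersion

/-!
# Lifting an invertible module from a closed curve: the local step
-/

universe u

open CategoryTheory AlgebraicGeometry Opposite TopologicalSpace
open Groth.Agent.Lib.TensorMod Groth.Agent.Lib.TensorMod.Dual Groth.Agent.Lib.TensorMod.Gen

namespace Groth.Agent.Lib.PicSurj.Local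

variable {X X₀ : Scheme.{u}} (i : X₀ ⟶ X)

/-- Every irreducible closed subset meets `X₀` in a connected set. -/
def MeetsConn : Prop :=
  ∀ y : X, ((closure {y} : Set X) ∩ Set.range i.base).Nonempty ∧
    _root_.IsConnected ((closure {y} : Set X) ∩ Set.range i.base)

variable {i}

/-- An irreducible closed subset meeting `X₀` near `t` only in `t` is contained in every nbhd. -/
theorem closure_inter_eq [IsClosedImmersion i] (hb : MeetsConn i) {W : X.Opens} {t : X₀} (ht : IsClosed ({t} : Set X₀))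
    (htW : i t ∈ W) {Z : Set X} (hZ : IsClosed Z) (hZt : ∀ s : X₀, i s ∈ Z → i s ∈ W → s = t)
    {y : X} (hy : y ∈ Z) (hyt : y ⤳ i t) :
    (closure {y} : Set X) ∩ Set.range i.base = {i t} ∧ (closure {y} : Set X) ⊆ W := by
  have hsub : (closure {y} : Set X) ⊆ Z := closure_minimal (Set.singleton_subset_iff.2 hy) hZ
  have hmem : i t ∈ closure {y} := specializes_iff_mem_closure.1 hyt
  have key : ∀ {y' : X}, y' ∈ (closure {y} : Set X) →
      (closure {y} : Set X) ∩ Set.range i.base = {i t} := by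
    intro y' _
    obtain ⟨-, hc⟩ := hb y
    refine Set.Subset.antisymm (fun z hz => ?_) (Set.singleton_subset_iff.2 ⟨hmem, t, rfl⟩)
    by_contra hzt
    have h1 : IsClosed ({i t} : Set X) := by
      have := i.isClosedEmbedding.isClosedMap _ ht
      rwa [Set.image_singleton] at this
    have hU : IsOpen ((W : Set X)) := W.2
    obtain ⟨w, hw, hwW, hwt⟩ := hc.2 (W : Set X) ({i t}ᶜ) hU h1.isOpen_compl
      (fun v _ => by by_cases h : v = i t
                     · exact Or.inl (h ▸ htW)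
                     · exact Or.inr h)
      ⟨i t, ⟨hmem, t, rfl⟩, htW⟩ ⟨z, hz, hzt⟩
    obtain ⟨s, rfl⟩ := hw.2
    exact hwt (congrArg i (hZt s (hsub hw.1) hwW))
  refine ⟨key hmem, fun y' hy' => ?_⟩
  obtain ⟨⟨z, hz, hzr⟩, -⟩ := hb y'
  have hz' : z ∈ (closure {y} : Set X) ∩ Set.range i.base :=
    ⟨closure_minimal (Set.singleton_subset_iff.2 hy') isClosed_closure hz, hzr⟩
  rw [key hy'] at hz'
  rw [Set.mem_singleton_iff] at hz'
  subst hz'
  exact (specializes_iff_mem_closure.2 hz).mem_open W.2 htW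

/-- A closed subset of an open meeting `X₀` in one point splits off a closed subset of `X`. -/
theorem exists_closed_part [IsClosedImmersion i] [IsNoetherian X] (hb : MeetsConn i) (W D : X.Opens) (t : X₀)
    (ht : IsClosed ({t} : Set X₀)) (htW : i t ∈ W) (htD : i t ∉ D)
    (hD : ∀ s : X₀, i s ∈ W → i s ∉ D → s = t) :
    ∃ (W' : X.Opens) (C : Closeds X), W' ≤ W ∧ i t ∈ W' ∧ i t ∈ C ∧ (C : Set X) ⊆ W' ∧
      (C : Set X) ∩ Set.range i.base = {i t} ∧ (∀ y ∈ W', y ∉ C → y ∈ D) ∧ ∀ y ∈ C, y ⤳ i t := by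
  let Z : Set X := closure ((W : Set X) \ D)
  have hZ : IsClosed Z := isClosed_closure
  have hZt : ∀ s : X₀, i s ∈ Z → i s ∈ W → s = t := fun s hs hsW => hD s hsW fun hsD => by
    obtain ⟨z, hz1, hz2⟩ := mem_closure_iff.1 hs D D.2 hsD
    exact hz2.2 hz1
  obtain ⟨𝒮, h𝒮, h𝒮c, h𝒮u⟩ : ∃ 𝒮 : Finset (Set X), (∀ Y ∈ 𝒮, IsClosed Y) ∧
      (∀ Y ∈ 𝒮, IsIrreducible Y) ∧ Z = ⋃ Y ∈ 𝒮, Y := by
    obtain ⟨S, hS⟩ := NoetherianSpace.exists_finset_irreducible ⟨Z, hZ⟩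
    classical
    refine ⟨S.image (fun Y : Closeds X => (Y : Set X)), fun Y hY => ?_, fun Y hY => ?_, ?_⟩
    · obtain ⟨Y', -, rfl⟩ := Finset.mem_image.1 hY; exact Y'.isClosed
    · obtain ⟨Y', hY', rfl⟩ := Finset.mem_image.1 hY; exact hS.1 ⟨Y', hY'⟩
    · have h2 := congrArg (fun Y : Closeds X => (Y : Set X)) hS.2
      simp only [Closeds.coe_mk, Closeds.coe_finset_sup] at h2
      rw [h2, Finset.sup_eq_iSup]
      simp
  classical
  let C : Set X := ⋃ Y ∈ 𝒮.filter (fun Y => i t ∈ Y), Y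
  let O : Set X := ⋃ Y ∈ 𝒮.filter (fun Y => i t ∉ Y), Y
  have hC : IsClosed C := Set.Finite.isClosed_biUnion (Finset.finite_toSet _)
    fun Y hY => h𝒮 Y (Finset.mem_filter.1 hY).1
  have hO : IsClosed O := Set.Finite.isClosed_biUnion (Finset.finite_toSet _)
    fun Y hY => h𝒮 Y (Finset.mem_filter.1 hY).1
  have hCs : ∀ y ∈ C, y ∈ Z ∧ y ⤳ i t := by
    intro y hy
    simp only [C, Set.mem_iUnion, Finset.mem_filter, exists_prop] at hy
    obtain ⟨Y, ⟨hY, htY⟩, hyY⟩ := hy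
    have hYZ : Y ⊆ Z := by rw [h𝒮u]; exact Set.subset_biUnion_of_mem (u := fun Y => Y) hY
    refine ⟨hYZ hyY, ?_⟩
    obtain ⟨η, hη⟩ := QuasiSober.sober (h𝒮c Y hY) (h𝒮 Y hY)
    have h1 := closure_inter_eq hb ht htW hZ hZt (hYZ hη.mem) (hη.specializes htY)
    obtain ⟨⟨z, hz, hzr⟩, -⟩ := hb y
    have hz' : z ∈ (closure {η} : Set X) ∩ Set.range i.base :=
      ⟨closure_minimal (Set.singleton_subset_iff.2 (by rw [hη.def]; exact hyY)) isClosed_closure hz, hzr⟩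
    rw [h1.1, Set.mem_singleton_iff] at hz'
    subst hz'
    exact specializes_iff_mem_closure.2 hz
  have hCW : ∀ y ∈ C, (closure {y} : Set X) ∩ Set.range i.base = {i t} ∧ (closure {y} : Set X) ⊆ W :=
    fun y hy => closure_inter_eq hb ht htW hZ hZt (hCs y hy).1 (hCs y hy).2
  have htO : i t ∉ O := by simp [O]
  have hCO : ∀ y ∈ C, y ∉ O := fun y hy hyO => htO ((hCs y hy).2.mem_closed hO hyO)
  refine ⟨W ⊓ ⟨Oᶜ, hO.isOpen_compl⟩, ⟨C, hC⟩, inf_le_left, ⟨htW, htO⟩, ?_,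
    fun y hy => ⟨(hCW y hy).2 (subset_closure rfl), hCO y hy⟩, ?_, ?_, fun y hy => (hCs y hy).2⟩
  · have h1 : i t ∈ Z := subset_closure ⟨htW, htD⟩
    rw [h𝒮u] at h1
    simp only [Set.mem_iUnion, exists_prop] at h1
    obtain ⟨Y, hY, htY⟩ := h1
    show i t ∈ C
    simp only [C, Set.mem_iUnion, Finset.mem_filter, exists_prop]
    exact ⟨Y, ⟨hY, htY⟩, htY⟩
  · refine Set.Subset.antisymm (fun z hz => ?_) ?_
    · have h := (hCW z hz.1).1
      exact h ▸ (⟨subset_closure rfl, hz.2⟩ : z ∈ (closure {z} : Set X) ∩ Set.range i.base)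
    · rintro _ rfl
      refine ⟨?_, t, rfl⟩
      have h1 : i t ∈ Z := subset_closure ⟨htW, htD⟩
      rw [h𝒮u] at h1
      simp only [Set.mem_iUnion, exists_prop] at h1
      obtain ⟨Y, hY, htY⟩ := h1
      show i t ∈ C
      simp only [C, Set.mem_iUnion, Finset.mem_filter, exists_prop]
      exact ⟨Y, ⟨hY, htY⟩, htY⟩
  · rintro y ⟨hyW, hyO⟩ hyC
    by_contra hyD
    have h1 : y ∈ Z := subset_closure ⟨hyW, hyD⟩
    rw [h𝒮u] at h1
    simp only [Set.mem_iUnion, exists_prop] at h1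
    obtain ⟨Y, hY, hyY⟩ := h1
    by_cases htY : i t ∈ Y
    · exact hyC (by
        show y ∈ C
        simp only [C, Set.mem_iUnion, Finset.mem_filter, exists_prop]
        exact ⟨Y, ⟨hY, htY⟩, hyY⟩)
    · exact hyO (by
        show y ∈ O
        simp only [O, Set.mem_iUnion, Finset.mem_filter, exists_prop]
        exact ⟨Y, ⟨hY, htY⟩, hyY⟩)

/-- A locally closed set of closed points of a Noetherian scheme is finite. -/
theorem finite_of_closedPoints {Y : Scheme.{u}} [NoetherianSpace Y] {A : Set Y} (U : Y.Opens) {Z : Set Y}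
    (hZ : IsClosed Z) (hA : A = (U : Set Y) ∩ Z) (h : ∀ x ∈ A, IsClosed ({x} : Set Y)) : A.Finite := by
  classical
  obtain ⟨S, hS⟩ := NoetherianSpace.exists_finset_irreducible (⟨closure A, isClosed_closure⟩ : Closeds Y)
  have h2 : closure A = ⋃ K ∈ S, (K : Set Y) := by
    have := congrArg (fun K : Closeds Y => (K : Set Y)) hS.2
    simp only [Closeds.coe_mk, Closeds.coe_finset_sup] at this
    rw [this, Finset.sup_eq_iSup]
    simp
  have hsingle : ∀ K ∈ S, ((K : Set Y) ∩ A).Subsingleton := by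
    intro K hK x hx y hy
    obtain ⟨η, hη⟩ := QuasiSober.sober (hS.1 ⟨K, hK⟩) K.isClosed
    have hηA : η ∈ A := by
      have hmem : η ∈ closure A := h2 ▸ Set.mem_biUnion hK hη.mem
      rw [hA] at hx ⊢
      exact ⟨(hη.specializes hx.1).mem_open U.2 hx.2.1,
        closure_minimal (hA ▸ Set.inter_subset_right) hZ hmem⟩
    have e : ∀ z ∈ (K : Set Y), z = η := fun z hz => by
      have := (hη.specializes hz).mem_closed (h η hηA) rfl
      exact this
    rw [e x hx.1, e y hy.1]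
  refine (Set.Finite.biUnion (S.finite_toSet) fun K hK => (hsingle K hK).finite).subset fun x hx => ?_
  obtain ⟨K, hK, hxK⟩ := Set.mem_iUnion₂.1 (h2 ▸ subset_closure hx)
  exact Set.mem_biUnion hK ⟨hxK, hx⟩

/-- The transition unit near a closed point lifts to a unit outside a closed subset of `X` through it. -/
theorem exists_local [IsClosedImmersion i] [IsNoetherian X] [NoetherianSpace X₀] (hb : MeetsConn i)
    {L : X₀.Modules} (hL : PicF.IsInvertible L) (V : X₀.Opens) (e₀ : Γ(L, V)) (he₀ : IsGen L V e₀)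
    (hV : ∀ x, x ∉ V → IsClosed ({x} : Set X₀))
    (S : Set X₀) (hSfin : S.Finite) (hSV : S ⊆ V) (hS : ∀ x ∉ S, IsClosed ({x} : Set X₀))
    (t : X₀) (ht : t ∉ V) :
    ∃ (W : X.Opens) (C : Closeds X) (g : Γ(X, W ⊓ C.compl))
      (e : Γ(L, i ⁻¹ᵁ W)) (hV' : i ⁻¹ᵁ (W ⊓ C.compl) ≤ V),
      i t ∈ W ∧ (C : Set X) ⊆ W ∧ (C : Set X) ∩ Set.range i.base = {i t} ∧ (∀ y ∈ C, y ⤳ i t) ∧
      IsUnit g ∧ IsGen L (i ⁻¹ᵁ W) e ∧
      rs L (i.preimage_mono inf_le_left) e = i.app (W ⊓ C.compl) g • rs L hV' e₀ := by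
  classical
  obtain ⟨G, eG, htG, heG⟩ := isInvertible_iff.1 hL t
  have hfin : ((V : Set X₀)ᶜ).Finite :=
    finite_of_closedPoints ⊤ V.2.isClosed_compl (by simp) fun x hx => hV x hx
  have hopen : IsOpen ((V : Set X₀)ᶜ \ {t})ᶜ := by
    rw [isOpen_compl_iff]
    rw [← Set.biUnion_of_singleton ((V : Set X₀)ᶜ \ {t})]
    exact (hfin.subset Set.sdiff_subset).isClosed_biUnion fun x hx => hV x hx.1
  obtain ⟨N, hN, hNeq⟩ := i.isClosedEmbedding.isInducing.isOpen_iff.1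
    (G.2.inter hopen : IsOpen ((G : Set X₀) ∩ ((V : Set X₀)ᶜ \ {t})ᶜ))
  have htN : i t ∈ N := by
    have : t ∈ i.base ⁻¹' N := by rw [hNeq]; exact ⟨htG, fun h => h.2 rfl⟩
    exact this
  obtain ⟨W₁, hW₁, htW₁, hW₁N⟩ := exists_isAffineOpen_mem_and_subset (U := (⟨N, hN⟩ : X.Opens)) htN
  have hU₁ : IsAffineOpen (i ⁻¹ᵁ W₁) := hW₁.preimage i
  have hW₁' : ∀ s : X₀, i s ∈ W₁ → s ∈ G ∧ (s ∉ V → s = t) := fun s hs => by
    have : s ∈ i.base ⁻¹' N := hW₁N hs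
    rw [hNeq] at this
    refine ⟨this.1, fun hsV => ?_⟩
    by_contra hne
    exact this.2 ⟨hsV, hne⟩
  obtain ⟨b₁, -, hb₁S, hb₁V, -⟩ := FinsetTriv.exists_basis_basicOpen hU₁ (LocFree.of_isInvertible hL)
    (T := S ∩ ((i ⁻¹ᵁ W₁ : X₀.Opens) : Set X₀)) (hSfin.subset Set.inter_subset_left) Set.inter_subset_right
    (O := V) (fun x hx => hSV hx.1)
  -- the extra zeros of `b₁`
  let A : Set X₀ := ((i ⁻¹ᵁ W₁ : X₀.Opens) : Set X₀) ∩ (X₀.basicOpen b₁ : Set X₀)ᶜ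
  have hAc : ∀ x ∈ A, IsClosed ({x} : Set X₀) := fun x hx => hS x fun hxS => hx.2 (hb₁S ⟨hxS, hx.1⟩)
  have hA : A.Finite := finite_of_closedPoints _ (X₀.basicOpen b₁).2.isClosed_compl rfl hAc
  have hEX : IsClosed (i.base '' (A \ {t})) := by
    refine i.isClosedEmbedding.isClosedMap _ ?_
    rw [← Set.biUnion_of_singleton (A \ {t})]
    exact (hA.subset Set.sdiff_subset).isClosed_biUnion fun x hx => hAc x hx.1
  obtain ⟨φ, hφle, htφ⟩ := hW₁.exists_basicOpen_le (V := ⟨(i.base '' (A \ {t}))ᶜ, hEX.isOpen_compl⟩)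
    ⟨i t, fun ⟨s, hs, hst⟩ => hs.2 (i.isClosedEmbedding.injective hst)⟩ htW₁
  -- the affine neighbourhood
  let W₂ : X.Opens := X.basicOpen φ
  have hW₂ : IsAffineOpen W₂ := hW₁.basicOpen φ
  have hW₂₁ : W₂ ≤ W₁ := X.basicOpen_le φ
  have hU₂ : IsAffineOpen (i ⁻¹ᵁ W₂) := hW₂.preimage i
  let b : Γ(X₀, i ⁻¹ᵁ W₂) := rf (i.preimage_mono hW₂₁) b₁
  have hDb : X₀.basicOpen b = (i ⁻¹ᵁ W₂) ⊓ X₀.basicOpen b₁ := X₀.basicOpen_res b₁ _
  have hDt : ∀ s : X₀, i s ∈ W₂ → s ∉ X₀.basicOpen b → s = t := by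
    intro s hs hsb
    by_contra hne
    refine hφle hs ⟨s, ⟨⟨hW₂₁ hs, fun h => hsb ?_⟩, hne⟩, rfl⟩
    rw [hDb]
    exact ⟨hs, h⟩
  have htb : t ∉ X₀.basicOpen b := fun h => ht (hb₁V (by rw [hDb] at h; exact h.2))
  have hbV : X₀.basicOpen b ≤ V := by rw [hDb]; exact inf_le_right.trans hb₁V
  have hle₂ : i ⁻¹ᵁ W₂ ≤ G := fun s hs => (hW₁' s (hW₂₁ hs)).1
  let e₂ : Γ(L, i ⁻¹ᵁ W₂) := rs L hle₂ eG
  have he₂ : IsGen L (i ⁻¹ᵁ W₂) e₂ := heG.res hle₂
  -- the transition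
  obtain ⟨u, hu⟩ := (he₀ _ hbV).2 (rs L (X₀.basicOpen_le b) e₂)
  obtain ⟨v, hv⟩ := (he₂ _ (X₀.basicOpen_le b)).2 (rs L hbV e₀)
  simp only at hu hv
  have huu : IsUnit u := by
    refine IsUnit.of_mul_eq_one v ((he₂ _ (X₀.basicOpen_le b)).1 ?_)
    simp only
    rw [mul_smul, hv, hu, one_smul]
  haveI := hU₂.isLocalization_basicOpen b
  obtain ⟨⟨a, ⟨_, k, rfl⟩⟩, hak⟩ := IsLocalization.surj (Submonoid.powers b) u
  replace hak : u * rf (X₀.basicOpen_le b) (b ^ k) = rf (X₀.basicOpen_le b) a := hak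
  obtain ⟨a', ha'⟩ := i.app_surjective W₂ hW₂ a
  obtain ⟨b', hb'⟩ := i.app_surjective W₂ hW₂ b
  let D : X.Opens := X.basicOpen a' ⊓ X.basicOpen b'
  have hDpre : i ⁻¹ᵁ D = X₀.basicOpen b := by
    have h1 : i ⁻¹ᵁ D = X₀.basicOpen a ⊓ X₀.basicOpen b := by
      rw [← ha', ← hb', ← Scheme.preimage_basicOpen, ← Scheme.preimage_basicOpen]
      rfl
    rw [h1, inf_eq_right]
    have hunit : IsUnit (rf (X₀.basicOpen_le b) a) := by
      rw [← hak]
      refine huu.mul ?_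
      rw [rf, map_pow]
      exact (RingedSpace.isUnit_res_basicOpen X₀.toLocallyRingedSpace.toRingedSpace b).pow k
    have h2 := X₀.basicOpen_res a (homOfLE (X₀.basicOpen_le b)).op
    rw [show X₀.basicOpen (X₀.presheaf.map (homOfLE (X₀.basicOpen_le b)).op a) = X₀.basicOpen b from
      Scheme.basicOpen_of_isUnit _ hunit] at h2
    exact h2 ▸ inf_le_right
  have htD : i t ∉ D := fun h => htb (hDpre ▸ (show t ∈ i ⁻¹ᵁ D from h))
  have hD : ∀ s : X₀, i s ∈ W₂ → i s ∉ D → s = t := fun s hs hsD =>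
    hDt s hs fun h => hsD ((hDpre.symm ▸ h : s ∈ i ⁻¹ᵁ D))
  obtain ⟨W, C, hWle, htW, htC, hCW, hCr, hCD, hCs⟩ := exists_closed_part hb W₂ D t
    (hV t ht) htφ htD hD
  have hO : W ⊓ C.compl ≤ D := fun y hy => hCD y hy.1 hy.2
  have hO' : i ⁻¹ᵁ (W ⊓ C.compl) ≤ X₀.basicOpen b := hDpre ▸ i.preimage_mono hO
  have hua : IsUnit (rf (hO.trans inf_le_left : W ⊓ C.compl ≤ X.basicOpen a')
      (rf (X.basicOpen_le a') a')) :=
    (RingedSpace.isUnit_res_basicOpen X.toLocallyRingedSpace.toRingedSpace a').map _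
  have hub : IsUnit (rf (hO.trans inf_le_right : W ⊓ C.compl ≤ X.basicOpen b')
      (rf (X.basicOpen_le b') b')) :=
    (RingedSpace.isUnit_res_basicOpen X.toLocallyRingedSpace.toRingedSpace b').map _
  rw [rf_rf] at hua hub
  let g : Γ(X, W ⊓ C.compl) := rf (inf_le_left.trans hWle : W ⊓ C.compl ≤ W₂) a' * ((hub.pow k).unit⁻¹ : Γ(X, W ⊓ C.compl)ˣ).1
  refine ⟨W, C, g, rs L (i.preimage_mono hWle) e₂, hO'.trans hbV, htW, hCW, hCr, hCs,
    hua.mul (Units.isUnit _), he₂.res _, ?_⟩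
  have happ : ∀ (c : Γ(X, W₂)) (h : W ⊓ C.compl ≤ W₂),
      i.app (W ⊓ C.compl) (rf h c) = rf (i.preimage_mono h) (i.app W₂ c) := fun c h =>
    ConcreteCategory.congr_hom (i.naturality (homOfLE h).op) c
  have hg : i.app (W ⊓ C.compl) g = rf hO' u := by
    have h3 : i.app (W ⊓ C.compl) g * i.app (W ⊓ C.compl) (rf (inf_le_left.trans hWle) b') ^ k =
        i.app (W ⊓ C.compl) (rf (inf_le_left.trans hWle) a') := by
      rw [← map_pow, ← map_mul, mul_assoc, IsUnit.val_inv_mul, mul_one]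
    rw [happ, happ, ha', hb'] at h3
    have h4 := congrArg (rf hO') hak
    rw [rf, map_mul] at h4
    change rf hO' u * rf hO' (rf (X₀.basicOpen_le b) (b ^ k)) = rf hO' (rf (X₀.basicOpen_le b) a) at h4
    rw [rf_rf, rf_rf, ← h3] at h4
    have hubk : IsUnit (rf (i.preimage_mono (inf_le_left.trans hWle) : i ⁻¹ᵁ (W ⊓ C.compl) ≤ i ⁻¹ᵁ W₂) b ^ k) := by
      rw [← hb', ← happ]
      exact (hub.map _).pow k
    refine hubk.mul_right_cancel ?_
    rw [← h4]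
    simp only [rf, map_pow]
  rw [hg, rs_rs]
  have := congrArg (rs L hO') hu
  rw [rs_smul, rs_rs, rs_rs] at this
  exact this.symm

end Groth.Agent.Lib.PicSurj.Local
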