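import Groth.Agent.Lib.PicSurj.Local
import Groth.Agent.H97.GlueLine
import Mathlib.Topology.KrullDimension
import Mathlib.Topology.Sober

/-!
# Surjectivity of `Pic X → Pic X₀` for a closed curve meeting every connected closed set connectedly
-/

universe u

open CategoryTheory AlgebraicGeometry Opposite TopologicalSpace
open Groth.Agent.Lib.TensorMod Groth.Agent.Lib.TensorMod.Dual Groth.Agent.Lib.TensorMod.Gen
open Groth.Agent.H97
open Groth.Agent.Lib.TensorMod.Pullback (unitSec)

namespace Groth.Agent.Lib.PicSurj.Main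

/-- On a space of dimension at most one the points which are not generic are closed. -/
theorem isClosed_of_notMem_genericPoints {Y : Scheme.{u}} (hd : topologicalKrullDim Y ≤ 1) {x : Y}
    (hx : x ∉ genericPoints Y) : IsClosed ({x} : Set Y) := by
  by_contra hc
  obtain ⟨y, hy, hyx⟩ : ∃ y ∈ closure ({x} : Set Y), y ≠ x := by
    by_contra h
    push Not at h
    exact hc ((Set.Subset.antisymm (fun y hy => h y hy) subset_closure : closure ({x} : Set Y) = {x}) ▸ isClosed_closure)
  obtain ⟨K, hK, hxK⟩ := exists_preirreducible (closure ({x} : Set Y)) isIrreducible_singleton.closure.2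
  have hKmax : K ∈ irreducibleComponents Y := by
    refine ⟨⟨⟨x, hxK.1 (subset_closure rfl)⟩, hK⟩, fun T hT hKT => ?_⟩
    exact (hxK.2 T hT.2 hKT).le
  have hKc : IsClosed K := isClosed_of_mem_irreducibleComponents K hKmax
  let a : IrreducibleCloseds Y := ⟨closure {y}, isIrreducible_singleton.closure, isClosed_closure⟩
  let b : IrreducibleCloseds Y := ⟨closure {x}, isIrreducible_singleton.closure, isClosed_closure⟩
  let c : IrreducibleCloseds Y := ⟨K, hKmax.1, hKc⟩
  have hab : a < b := by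
    refine lt_of_le_not_ge (show closure {y} ⊆ closure {x} from
      closure_minimal (Set.singleton_subset_iff.2 hy) isClosed_closure) fun h => hyx ?_
    exact ((specializes_iff_mem_closure.2 (h (subset_closure rfl))).antisymm (specializes_iff_mem_closure.2 hy)).eq
  have hbc : b < c := by
    refine lt_of_le_not_ge (show closure {x} ⊆ K from hxK.1) fun h => hx ?_
    have : closure ({x} : Set Y) = K := Set.Subset.antisymm hxK.1 h
    show closure ({x} : Set Y) ∈ irreducibleComponents Y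
    rw [this]; exact hKmax
  let p : LTSeries (IrreducibleCloseds Y) := ((RelSeries.singleton _ a).snoc b hab).snoc c (by simpa using hbc)
  have h2 := (Order.LTSeries.length_le_krullDim p).trans hd
  have h3 : (2 : ℕ) ≤ 1 := by exact_mod_cast h2
  omega

variable {X X₀ : Scheme.{u}} (i : X₀ ⟶ X)

/-- An invertible module is trivial near all generic points. -/
theorem exists_gen_generic [NoetherianSpace X₀] {L : X₀.Modules} (hL : PicF.IsInvertible L) :
    ∃ (V : X₀.Opens) (e : Γ(L, V)), genericPoints X₀ ⊆ V ∧ IsGen L V e := by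
  classical
  have hS : (genericPoints X₀).Finite := genericPoints.finite NoetherianSpace.finite_irreducibleComponents
  have hloc : ∀ η : genericPoints X₀, ∃ (U : X₀.Opens) (e : Γ(L, U)), (η : X₀) ∈ U ∧ IsGen L U e ∧
      ∀ ξ : genericPoints X₀, ∀ y ∈ U, (ξ : X₀) ⤳ y → ξ = η := by
    intro η
    obtain ⟨U, e, hη, he⟩ := isInvertible_iff.1 hL η
    let Cl : Set X₀ := ⋃ ξ ∈ {ξ ∈ genericPoints X₀ | ξ ≠ η}, closure {ξ}
    have hCl : IsClosed Cl := (hS.subset (Set.sep_subset _ _)).isClosed_biUnion fun _ _ => isClosed_closure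
    refine ⟨U ⊓ ⟨Clᶜ, hCl.isOpen_compl⟩, rs L inf_le_left e, ⟨hη, fun h => ?_⟩, he.res _, fun ξ y hy hξy => ?_⟩
    · obtain ⟨ξ, ⟨hξ, hne⟩, hmem⟩ := Set.mem_iUnion₂.1 h
      refine hne ?_
      have h1 : closure {(η : X₀)} ⊆ closure {ξ} := closure_minimal (Set.singleton_subset_iff.2 hmem) isClosed_closure
      have h2 : closure {ξ} ⊆ closure {(η : X₀)} := η.2.2 isIrreducible_singleton.closure h1
      exact ((specializes_iff_mem_closure.2 hmem).antisymm
        (specializes_iff_mem_closure.2 (h2 (subset_closure rfl)))).eq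
    · by_contra hne
      exact hy.2 (Set.mem_iUnion₂.2 ⟨ξ, ⟨ξ.2, fun h => hne (Subtype.ext h)⟩, specializes_iff_mem_closure.1 hξy⟩)
  choose U e hU he hsep using hloc
  have hdisj : ∀ a b : genericPoints X₀, a ≠ b → U a ⊓ U b = ⊥ := by
    intro a b hab
    refine eq_bot_iff.2 fun y hy => (hab ?_).elim
    obtain ⟨K, hK, hyK⟩ := exists_preirreducible ({y} : Set X₀) isIrreducible_singleton.2
    have hKmax : K ∈ irreducibleComponents X₀ :=
      ⟨⟨⟨y, hyK.1 rfl⟩, hK⟩, fun T hT hKT => (hyK.2 T hT.2 hKT).le⟩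
    obtain ⟨η, hη⟩ := QuasiSober.sober hKmax.1 (isClosed_of_mem_irreducibleComponents K hKmax)
    have hηS : η ∈ genericPoints X₀ := show closure {η} ∈ irreducibleComponents X₀ by rw [hη.def]; exact hKmax
    have hηy : η ⤳ y := hη.specializes (hyK.1 rfl)
    exact ((hsep a ⟨η, hηS⟩ y hy.1 hηy).symm.trans (hsep b ⟨η, hηS⟩ y hy.2 hηy))
  obtain ⟨s, hs, -⟩ := TopCat.Sheaf.existsUnique_gluing'
    (⟨L.presheaf, L.isSheaf⟩ : TopCat.Sheaf Ab.{u} X₀) U (iSup U) (fun a => homOfLE (le_iSup U a)) le_rfl e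
    (fun a b => by
      show rs L (inf_le_left : U a ⊓ U b ≤ U a) (e a) = rs L inf_le_right (e b)
      by_cases hab : a = b
      · subst hab; rfl
      · refine TopCat.Sheaf.eq_of_locally_eq' (⟨L.presheaf, L.isSheaf⟩ : TopCat.Sheaf Ab.{u} X₀)
          (fun x : PEmpty.{u + 1} => x.elim) (U a ⊓ U b) (fun x => x.elim) (by rw [hdisj a b hab]; exact bot_le) _ _
          (fun x => x.elim))
  refine ⟨iSup U, s, fun η hη => Opens.mem_iSup.2 ⟨⟨η, hη⟩, hU _⟩, ?_⟩
  refine GenLocal.isGen_of_forall_exists fun y hy => ?_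
  obtain ⟨a, ha⟩ := Opens.mem_iSup.1 hy
  refine ⟨U a, le_iSup U a, ha, ?_⟩
  rw [show rs L (le_iSup U a) s = e a from hs a]
  exact he a

/-- The unit as a generator. -/
theorem isGen_unit {W : X.Opens} {g : Γ(X, W)} (hg : IsUnit g) :
    IsGen (Coh.structureModule X) W (g • one X W) :=
  GenLocal.isGen_smul (Ample.GenLocus.isGen_one W) hg

/-- Every invertible module on the curve extends. -/
theorem exists_lift [IsClosedImmersion i] [IsNoetherian X] (hd : topologicalKrullDim X₀ ≤ 1)
    (hb : Local.MeetsConn i) {L : X₀.Modules} (hL : PicF.IsInvertible L) :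
    ∃ L' : X.Modules, PicF.IsInvertible L' ∧
      Nonempty ((Scheme.Modules.pullback i).obj L' ≅ L) := by
  classical
  haveI : NoetherianSpace X₀ := i.isClosedEmbedding.isInducing.noetherianSpace
  obtain ⟨V, e₀, hSV, he₀⟩ := exists_gen_generic hL
  have hSfin : (genericPoints X₀).Finite := genericPoints.finite NoetherianSpace.finite_irreducibleComponents
  have hS : ∀ x ∉ genericPoints X₀, IsClosed ({x} : Set X₀) := fun x hx => isClosed_of_notMem_genericPoints hd hx
  have hV : ∀ x, x ∉ V → IsClosed ({x} : Set X₀) := fun x hx => hS x fun h => hx (hSV h)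
  have hloc := fun t : {t : X₀ // t ∉ V} =>
    Local.exists_local hb hL V e₀ he₀ hV _ hSfin hSV hS t t.2
  choose W₀ C g₀ e₁ hV₁ htW hCW hCr hCs hg₀ he₁ hrel using hloc
  haveI : Finite {t : X₀ // t ∉ V} :=
    (Local.finite_of_closedPoints ⊤ V.2.isClosed_compl (A := (V : Set X₀)ᶜ) (by simp) fun x hx => hV x hx).to_subtype
  let CU : Set X := ⋃ t : {t : X₀ // t ∉ V}, (C t : Set X)
  have hCU : IsClosed CU := isClosed_iUnion_of_finite fun t => (C t).isClosed
  have hothers : ∀ t : {t : X₀ // t ∉ V}, IsClosed (⋃ s : {s // s ≠ t}, (C s.1 : Set X)) :=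
    fun t => isClosed_iUnion_of_finite fun s => (C s.1).isClosed
  let B : X.Opens := ⟨CUᶜ, hCU.isOpen_compl⟩
  let U : Option {t : X₀ // t ∉ V} → X.Opens := fun o =>
    match o with
    | none => B
    | some t => W₀ t ⊓ ⟨(⋃ s : {s // s ≠ t}, (C s.1 : Set X))ᶜ, (hothers t).isOpen_compl⟩
  have hdisjC : ∀ s t : {t : X₀ // t ∉ V}, s ≠ t → ∀ y ∈ C s, y ∉ C t := by
    intro s t hst y hys hyt
    obtain ⟨⟨z, hz, hzr⟩, -⟩ := hb y
    have h1 : z ∈ (C s : Set X) ∩ Set.range i.base :=
      ⟨closure_minimal (Set.singleton_subset_iff.2 hys) (C s).isClosed hz, hzr⟩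
    have h2 : z ∈ (C t : Set X) ∩ Set.range i.base :=
      ⟨closure_minimal (Set.singleton_subset_iff.2 hyt) (C t).isClosed hz, hzr⟩
    rw [hCr, Set.mem_singleton_iff] at h1 h2
    exact hst (Subtype.ext (i.isClosedEmbedding.injective (h1.symm.trans h2)))
  have hU : iSup U = ⊤ := top_le_iff.1 fun y _ => Opens.mem_iSup.2 <| by
    by_cases hy : y ∈ CU
    · obtain ⟨t, ht⟩ := Set.mem_iUnion.1 hy
      refine ⟨some t, hCW t ht, fun h => ?_⟩
      obtain ⟨⟨s, hs⟩, hys⟩ := Set.mem_iUnion.1 h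
      exact hdisjC s t hs y hys ht
    · exact ⟨none, hy⟩
  have hUB : ∀ t, U (some t) ⊓ B ≤ W₀ t ⊓ (C t).compl := fun t y hy =>
    ⟨hy.1.1, fun h => hy.2 (Set.mem_iUnion.2 ⟨t, h⟩)⟩
  have hdisj : ∀ a b, a ≠ b → U a ⊓ U b ≤ B := by
    intro a b hab y hy
    match a, b, hab with
    | none, _, _ => exact hy.1
    | some _, none, _ => exact hy.2
    | some s, some t, hst =>
      intro hc
      obtain ⟨r, hr⟩ := Set.mem_iUnion.1 hc
      by_cases hrs : r = s
      · subst hrs
        exact hy.2.2 (Set.mem_iUnion.2 ⟨⟨r, fun h => hst (congrArg some h)⟩, hr⟩)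
      · exact hy.1.2 (Set.mem_iUnion.2 ⟨⟨r, hrs⟩, hr⟩)
  let v : ∀ o, Γ(X, U o ⊓ B) := fun o =>
    match o with
    | none => 1
    | some t => rf (hUB t) (g₀ t)
  have hv : ∀ o, IsUnit (v o) := fun o => by
    match o with
    | none => exact isUnit_one
    | some t => exact (hg₀ t).map _
  obtain ⟨c, hc⟩ := GlueLine.exists_cocycle hdisj (fun o => v o • one X (U o ⊓ B)) fun o => isGen_unit (hv o)
  have hcv : ∀ (a b : Option {t : X₀ // t ∉ V}) (W : X.Opens) (ha : W ≤ U a) (hb' : W ≤ U b) (hB : W ≤ B),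
      rf (le_inf hb' hB) (v b) = c.tr a b ha hb' * rf (le_inf ha hB) (v a) := by
    intro a b W ha hb' hB
    have h := hc a b W ha hb' hB
    rw [rs_smul, rs_smul, smul_smul] at h
    have e : ∀ (W' : X.Opens) (h' : W ≤ W'), rs (Coh.structureModule X) h' (one X W') = one X W :=
      fun W' h' => map_one (X.presheaf.map (homOfLE h').op).hom
    rw [e, e] at h
    refine (Ample.GenLocus.isGen_one W W le_rfl).1 ?_
    simp only [rs_self]
    exact h
  refine ⟨GlueLine.glue c, GlueLine.isInvertible_glue c hU, ?_⟩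
  have hBV : i ⁻¹ᵁ B ≤ V := fun s hs => by_contra fun hsV => hs (Set.mem_iUnion.2 ⟨⟨s, hsV⟩,
    (Set.ext_iff.1 (hCr ⟨s, hsV⟩) (i s)).2 rfl |>.1⟩)
  let m : ∀ o, Γ(L, i ⁻¹ᵁ U o) := fun o =>
    match o with
    | none => rs L hBV e₀
    | some t => rs L (i.preimage_mono inf_le_left) (e₁ t)
  have hm : ∀ o, IsGen L (i ⁻¹ᵁ U o) (m o) := fun o => by
    match o with
    | none => exact he₀.res _
    | some t => exact (he₁ t).res _
  have key : ∀ o, rs L (i.preimage_mono inf_le_left) (m o) =
      i.app (U o ⊓ B) (v o) • rs L ((i.preimage_mono inf_le_right).trans hBV) e₀ := fun o => by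
    match o with
    | none =>
      show rs L _ (rs L hBV e₀) = i.app (B ⊓ B) 1 • _
      rw [map_one, one_smul, rs_rs]
    | some t =>
      have := congrArg (rs L (i.preimage_mono (hUB t))) (hrel t)
      rw [rs_smul, rs_rs, rs_rs] at this
      show rs L _ (rs L _ (e₁ t)) = i.app (U (some t) ⊓ B) (rf (hUB t) (g₀ t)) • _
      rw [rs_rs, show i.app (U (some t) ⊓ B) (rf (hUB t) (g₀ t)) =
        rf (i.preimage_mono (hUB t)) (i.app (W₀ t ⊓ (C t).compl) (g₀ t)) from
        ConcreteCategory.congr_hom (i.naturality (homOfLE (hUB t)).op) (g₀ t)]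
      exact this
  have hUpre : (⨆ o, i ⁻¹ᵁ U o) = ⊤ := by rw [← Scheme.Hom.preimage_iSup, hU]; rfl
  obtain ⟨φ, -⟩ := HomGlue.exists_iso_of_gen hUpre (fun o => unitSec i _ (GlueLine.gen c o))
    (fun o => Ample.GenLocus.isGen_unitSec i (GlueLine.isGen_gen c o)) m hm fun a b W ha hb' r hr => by
      let Z : X.Opens := U a ⊓ U b
      have hWZ : W ≤ i ⁻¹ᵁ Z := le_inf ha hb'
      have h1 := congrArg (unitSec i _) (GlueLine.rs_gen c b a (inf_le_right : Z ≤ U b) (inf_le_left : Z ≤ U a))
      rw [Ample.GenLocus.unitSec_smul, ← Ample.GenLocus.unitSec_rs, ← Ample.GenLocus.unitSec_rs] at h1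
      have h2 := congrArg (rs _ hWZ) h1
      rw [rs_smul, rs_rs, rs_rs] at h2
      have hrr : r = rf hWZ (i.app Z (c.tr b a inf_le_right inf_le_left)) :=
        ((Ample.GenLocus.isGen_unitSec i (GlueLine.isGen_gen c b)) W hb').1 (hr.symm.trans h2)
      subst hrr
      by_cases hab : a = b
      · subst hab
        rw [c.tr_self, map_one, rf, map_one, one_smul]
      · let P : X.Opens := U a ⊓ U b
        have hPB : P ≤ B := hdisj a b hab
        have h3 := congrArg (i.app P) (hcv b a P inf_le_right inf_le_left hPB)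
        rw [map_mul] at h3
        have hn : ∀ (o) (h : P ≤ U o ⊓ B), i.app P (rf h (v o)) = rf (i.preimage_mono h) (i.app (U o ⊓ B) (v o)) :=
          fun o h => ConcreteCategory.congr_hom (i.naturality (homOfLE h).op) (v o)
        rw [hn, hn] at h3
        have hka := congrArg (rs L (i.preimage_mono (le_inf inf_le_left hPB : P ≤ U a ⊓ B))) (key a)
        have hkb := congrArg (rs L (i.preimage_mono (le_inf inf_le_right hPB : P ≤ U b ⊓ B))) (key b)
        rw [rs_smul, rs_rs, rs_rs] at hka hkb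
        have h4 : rs L (i.preimage_mono (inf_le_left : P ≤ U a)) (m a) =
            i.app P (c.tr b a inf_le_right inf_le_left) • rs L (i.preimage_mono (inf_le_right : P ≤ U b)) (m b) := by
          rw [hka, hkb, smul_smul, ← h3]
        have h5 := congrArg (rs L hWZ) h4
        rw [rs_smul, rs_rs, rs_rs] at h5
        exact h5
  exact ⟨φ⟩

end Groth.Agent.Lib.PicSurj.Main
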