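import Groth.Agent.Lib.PicSurj.Main

/-!
# Lifting an invertible module from a curve along which discrete traces split off
-/

set_option autoImplicit false
set_option linter.style.haveILetI false

universe u

open CategoryTheory AlgebraicGeometry Opposite TopologicalSpace
open Groth.Agent.Lib.TensorMod Groth.Agent.Lib.TensorMod.Dual Groth.Agent.Lib.TensorMod.Gen
open Groth.Agent.H97
open Groth.Agent.Lib.TensorMod.Pullback (unitSec)

namespace Groth.Agent.Lib.PicSurj.Split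

variable {X X₀ : Scheme.{u}} (i : X₀ ⟶ X)

/-- A locally closed set with discrete trace on `X₀` has a relatively open part around this trace which
is closed in `X`. -/
def SplitsDiscrete : Prop :=
  ∀ Y : Set X, IsLocallyClosed Y → DiscreteTopology ↥(Y ∩ Set.range i.base) →
    ∃ Y' : Set X, Y' ⊆ Y ∧ IsClosed Y' ∧ (∃ O : Set X, IsOpen O ∧ Y' = Y ∩ O) ∧ Y ∩ Set.range i.base ⊆ Y'

variable {i}

/-- The trace of a single point. -/
theorem SplitsDiscrete.exists_part (hb : SplitsDiscrete i) {Y : Set X} (hY : IsLocallyClosed Y) {p : X}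
    (hp : Y ∩ Set.range i.base = {p}) :
    ∃ (O : X.Opens) (C : Closeds X), p ∈ O ∧ (C : Set X) = Y ∩ O ∧ p ∈ C := by
  haveI : Subsingleton ↥(Y ∩ Set.range i.base) := by rw [hp]; infer_instance
  obtain ⟨Y', -, hc, ⟨O, hO, rfl⟩, hsub⟩ := hb Y hY inferInstance
  have := hsub (hp.symm ▸ rfl : p ∈ Y ∩ Set.range i.base)
  exact ⟨⟨O, hO⟩, ⟨_, hc⟩, this.2, rfl, this⟩

/-- A locally closed subset meeting `X₀` in one point splits off a closed subset of `X`. -/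
theorem exists_closed_part (hb : SplitsDiscrete i) (W D : X.Opens) (t : X₀)
    (htW : i t ∈ W) (htD : i t ∉ D) (hD : ∀ s : X₀, i s ∈ W → i s ∉ D → s = t) :
    ∃ (W' : X.Opens) (C : Closeds X), W' ≤ W ∧ i t ∈ W' ∧ i t ∈ C ∧ (C : Set X) ⊆ W' ∧
      (C : Set X) ∩ Set.range i.base = {i t} ∧ (∀ y ∈ W', y ∉ C → y ∈ D) := by
  have hp : ((W : Set X) ∩ (D : Set X)ᶜ) ∩ Set.range i.base = {i t} := by
    refine Set.Subset.antisymm ?_ (Set.singleton_subset_iff.2 ⟨⟨htW, htD⟩, t, rfl⟩)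
    rintro _ ⟨⟨hsW, hsD⟩, s, rfl⟩
    exact congrArg i (hD s hsW hsD)
  obtain ⟨O, C, hpO, hC, hpC⟩ :=
    hb.exists_part (W.2.isLocallyClosed.inter D.2.isClosed_compl.isLocallyClosed) hp
  refine ⟨W ⊓ O, C, inf_le_left, ⟨htW, hpO⟩, hpC, fun y hy => ?_, ?_, fun y hy hyC => ?_⟩
  · rw [hC] at hy
    exact ⟨hy.1.1, hy.2⟩
  · refine Set.Subset.antisymm (fun y hy => ?_) (Set.singleton_subset_iff.2 ⟨hpC, t, rfl⟩)
    rw [← hp]
    exact ⟨(hC ▸ hy.1 : y ∈ _ ∩ (O : Set X)).1, hy.2⟩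
  · by_contra hyD
    exact hyC ((Set.ext_iff.1 hC y).2 ⟨⟨hy.1, hyD⟩, hy.2⟩)

/-- The transition unit near a closed point lifts to a unit outside a closed subset of `X` through it. -/
theorem exists_local [IsClosedImmersion i] [IsNoetherian X] [NoetherianSpace X₀] (hb : SplitsDiscrete i)
    {L : X₀.Modules} (hL : PicF.IsInvertible L) (V : X₀.Opens) (e₀ : Γ(L, V)) (he₀ : IsGen L V e₀)
    (hV : ∀ x, x ∉ V → IsClosed ({x} : Set X₀))
    (S : Set X₀) (hSfin : S.Finite) (hSV : S ⊆ V) (hS : ∀ x ∉ S, IsClosed ({x} : Set X₀))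
    (t : X₀) (ht : t ∉ V) :
    ∃ (W : X.Opens) (C : Closeds X) (g : Γ(X, W ⊓ C.compl))
      (e : Γ(L, i ⁻¹ᵁ W)) (hV' : i ⁻¹ᵁ (W ⊓ C.compl) ≤ V),
      i t ∈ W ∧ (C : Set X) ⊆ W ∧ (C : Set X) ∩ Set.range i.base = {i t} ∧
      IsUnit g ∧ IsGen L (i ⁻¹ᵁ W) e ∧
      rs L (i.preimage_mono inf_le_left) e = i.app (W ⊓ C.compl) g • rs L hV' e₀ := by
  classical
  obtain ⟨G, eG, htG, heG⟩ := isInvertible_iff.1 hL t
  have hfin : ((V : Set X₀)ᶜ).Finite :=
    Local.finite_of_closedPoints ⊤ V.2.isClosed_compl (by simp) fun x hx => hV x hx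
  have hopen : IsOpen ((V : Set X₀)ᶜ \ {t})ᶜ := by
    rw [isOpen_compl_iff]
    rw [← Set.biUnion_of_singleton ((V : Set X₀)ᶜ \ {t})]
    exact (hfin.subset Set.sdiff_subset).isClosed_biUnion fun x hx => hV x hx.1
  obtain ⟨N, hN, hNeq⟩ := i.isClosedEmbedding.isInducing.isOpen_iff.1
    (G.2.inter hopen : IsOpen ((G : Set X₀) ∩ ((V : Set X₀)ᶜ \ {t})ᶜ))
  have htN : i t ∈ N := by
    have : t ∈ i.base ⁻¹' N := by rw [hNeq]; exact ⟨htG, fun h => h.2 rfl⟩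
    exact this
  obtain ⟨W₁, hW₁, htW₁, hW₁N⟩ := exists_isAffineOpen_mem_and_subset (U := (⟨N, hN⟩ : X.Opens)) htN
  have hU₁ : IsAffineOpen (i ⁻¹ᵁ W₁) := hW₁.preimage i
  have hW₁' : ∀ s : X₀, i s ∈ W₁ → s ∈ G ∧ (s ∉ V → s = t) := fun s hs => by
    have : s ∈ i.base ⁻¹' N := hW₁N hs
    rw [hNeq] at this
    refine ⟨this.1, fun hsV => ?_⟩
    by_contra hne
    exact this.2 ⟨hsV, hne⟩
  obtain ⟨b₁, -, hb₁S, hb₁V, -⟩ := FinsetTriv.exists_basis_basicOpen hU₁ (LocFree.of_isInvertible hL)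
    (T := S ∩ ((i ⁻¹ᵁ W₁ : X₀.Opens) : Set X₀)) (hSfin.subset Set.inter_subset_left) Set.inter_subset_right
    (O := V) (fun x hx => hSV hx.1)
  -- the extra zeros of `b₁`
  let A : Set X₀ := ((i ⁻¹ᵁ W₁ : X₀.Opens) : Set X₀) ∩ (X₀.basicOpen b₁ : Set X₀)ᶜ
  have hAc : ∀ x ∈ A, IsClosed ({x} : Set X₀) := fun x hx => hS x fun hxS => hx.2 (hb₁S ⟨hxS, hx.1⟩)
  have hA : A.Finite := Local.finite_of_closedPoints _ (X₀.basicOpen b₁).2.isClosed_compl rfl hAc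
  have hEX : IsClosed (i.base '' (A \ {t})) := by
    refine i.isClosedEmbedding.isClosedMap _ ?_
    rw [← Set.biUnion_of_singleton (A \ {t})]
    exact (hA.subset Set.sdiff_subset).isClosed_biUnion fun x hx => hAc x hx.1
  obtain ⟨φ, hφle, htφ⟩ := hW₁.exists_basicOpen_le (V := ⟨(i.base '' (A \ {t}))ᶜ, hEX.isOpen_compl⟩)
    ⟨i t, fun ⟨s, hs, hst⟩ => hs.2 (i.isClosedEmbedding.injective hst)⟩ htW₁
  -- the affine neighbourhood
  let W₂ : X.Opens := X.basicOpen φ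
  have hW₂ : IsAffineOpen W₂ := hW₁.basicOpen φ
  have hW₂₁ : W₂ ≤ W₁ := X.basicOpen_le φ
  have hU₂ : IsAffineOpen (i ⁻¹ᵁ W₂) := hW₂.preimage i
  let b : Γ(X₀, i ⁻¹ᵁ W₂) := rf (i.preimage_mono hW₂₁) b₁
  have hDb : X₀.basicOpen b = (i ⁻¹ᵁ W₂) ⊓ X₀.basicOpen b₁ := X₀.basicOpen_res b₁ _
  have hDt : ∀ s : X₀, i s ∈ W₂ → s ∉ X₀.basicOpen b → s = t := by
    intro s hs hsb
    by_contra hne
    refine hφle hs ⟨s, ⟨⟨hW₂₁ hs, fun h => hsb ?_⟩, hne⟩, rfl⟩
    rw [hDb]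
    exact ⟨hs, h⟩
  have htb : t ∉ X₀.basicOpen b := fun h => ht (hb₁V (by rw [hDb] at h; exact h.2))
  have hbV : X₀.basicOpen b ≤ V := by rw [hDb]; exact inf_le_right.trans hb₁V
  have hle₂ : i ⁻¹ᵁ W₂ ≤ G := fun s hs => (hW₁' s (hW₂₁ hs)).1
  let e₂ : Γ(L, i ⁻¹ᵁ W₂) := rs L hle₂ eG
  have he₂ : IsGen L (i ⁻¹ᵁ W₂) e₂ := heG.res hle₂
  -- the transition
  obtain ⟨u, hu⟩ := (he₀ _ hbV).2 (rs L (X₀.basicOpen_le b) e₂)
  obtain ⟨v, hv⟩ := (he₂ _ (X₀.basicOpen_le b)).2 (rs L hbV e₀)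
  simp only at hu hv
  have huu : IsUnit u := by
    refine IsUnit.of_mul_eq_one v ((he₂ _ (X₀.basicOpen_le b)).1 ?_)
    simp only
    rw [mul_smul, hv, hu, one_smul]
  haveI := hU₂.isLocalization_basicOpen b
  obtain ⟨⟨a, ⟨_, k, rfl⟩⟩, hak⟩ := IsLocalization.surj (Submonoid.powers b) u
  replace hak : u * rf (X₀.basicOpen_le b) (b ^ k) = rf (X₀.basicOpen_le b) a := hak
  obtain ⟨a', ha'⟩ := i.app_surjective W₂ hW₂ a
  obtain ⟨b', hb'⟩ := i.app_surjective W₂ hW₂ b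
  let D : X.Opens := X.basicOpen a' ⊓ X.basicOpen b'
  have hDpre : i ⁻¹ᵁ D = X₀.basicOpen b := by
    have h1 : i ⁻¹ᵁ D = X₀.basicOpen a ⊓ X₀.basicOpen b := by
      rw [← ha', ← hb', ← Scheme.preimage_basicOpen, ← Scheme.preimage_basicOpen]
      rfl
    rw [h1, inf_eq_right]
    have hunit : IsUnit (rf (X₀.basicOpen_le b) a) := by
      rw [← hak]
      refine huu.mul ?_
      rw [rf, map_pow]
      exact (RingedSpace.isUnit_res_basicOpen X₀.toLocallyRingedSpace.toRingedSpace b).pow k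
    have h2 := X₀.basicOpen_res a (homOfLE (X₀.basicOpen_le b)).op
    rw [show X₀.basicOpen (X₀.presheaf.map (homOfLE (X₀.basicOpen_le b)).op a) = X₀.basicOpen b from
      Scheme.basicOpen_of_isUnit _ hunit] at h2
    exact h2 ▸ inf_le_right
  have htD : i t ∉ D := fun h => htb (hDpre ▸ (show t ∈ i ⁻¹ᵁ D from h))
  have hD : ∀ s : X₀, i s ∈ W₂ → i s ∉ D → s = t := fun s hs hsD =>
    hDt s hs fun h => hsD ((hDpre.symm ▸ h : s ∈ i ⁻¹ᵁ D))
  obtain ⟨W, C, hWle, htW, htC, hCW, hCr, hCD⟩ := exists_closed_part hb W₂ D t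
    htφ htD hD
  have hO : W ⊓ C.compl ≤ D := fun y hy => hCD y hy.1 hy.2
  have hO' : i ⁻¹ᵁ (W ⊓ C.compl) ≤ X₀.basicOpen b := hDpre ▸ i.preimage_mono hO
  have hua : IsUnit (rf (hO.trans inf_le_left : W ⊓ C.compl ≤ X.basicOpen a')
      (rf (X.basicOpen_le a') a')) :=
    (RingedSpace.isUnit_res_basicOpen X.toLocallyRingedSpace.toRingedSpace a').map _
  have hub : IsUnit (rf (hO.trans inf_le_right : W ⊓ C.compl ≤ X.basicOpen b')
      (rf (X.basicOpen_le b') b')) :=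
    (RingedSpace.isUnit_res_basicOpen X.toLocallyRingedSpace.toRingedSpace b').map _
  rw [rf_rf] at hua hub
  let g : Γ(X, W ⊓ C.compl) := rf (inf_le_left.trans hWle : W ⊓ C.compl ≤ W₂) a' * ((hub.pow k).unit⁻¹ : Γ(X, W ⊓ C.compl)ˣ).1
  refine ⟨W, C, g, rs L (i.preimage_mono hWle) e₂, hO'.trans hbV, htW, hCW, hCr,
    hua.mul (Units.isUnit _), he₂.res _, ?_⟩
  have happ : ∀ (c : Γ(X, W₂)) (h : W ⊓ C.compl ≤ W₂),
      i.app (W ⊓ C.compl) (rf h c) = rf (i.preimage_mono h) (i.app W₂ c) := fun c h =>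
    ConcreteCategory.congr_hom (i.naturality (homOfLE h).op) c
  have hg : i.app (W ⊓ C.compl) g = rf hO' u := by
    have h3 : i.app (W ⊓ C.compl) g * i.app (W ⊓ C.compl) (rf (inf_le_left.trans hWle) b') ^ k =
        i.app (W ⊓ C.compl) (rf (inf_le_left.trans hWle) a') := by
      rw [← map_pow, ← map_mul, mul_assoc, IsUnit.val_inv_mul, mul_one]
    rw [happ, happ, ha', hb'] at h3
    have h4 := congrArg (rf hO') hak
    rw [rf, map_mul] at h4
    change rf hO' u * rf hO' (rf (X₀.basicOpen_le b) (b ^ k)) = rf hO' (rf (X₀.basicOpen_le b) a) at h4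
    rw [rf_rf, rf_rf, ← h3] at h4
    have hubk : IsUnit (rf (i.preimage_mono (inf_le_left.trans hWle) : i ⁻¹ᵁ (W ⊓ C.compl) ≤ i ⁻¹ᵁ W₂) b ^ k) := by
      rw [← hb', ← happ]
      exact (hub.map _).pow k
    refine hubk.mul_right_cancel ?_
    rw [← h4]
    simp only [rf, map_pow]
  rw [hg, rs_rs]
  have := congrArg (rs L hO') hu
  rw [rs_smul, rs_rs, rs_rs] at this
  exact this.symm

/-- Every invertible module on the curve extends. -/
theorem exists_lift [IsClosedImmersion i] [IsNoetherian X] (hd : topologicalKrullDim X₀ ≤ 1)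
    (hb : SplitsDiscrete i) {L : X₀.Modules} (hL : PicF.IsInvertible L) :
    ∃ L' : X.Modules, PicF.IsInvertible L' ∧
      Nonempty ((Scheme.Modules.pullback i).obj L' ≅ L) := by
  classical
  haveI : NoetherianSpace X₀ := i.isClosedEmbedding.isInducing.noetherianSpace
  obtain ⟨V, e₀, hSV, he₀⟩ := Main.exists_gen_generic hL
  have hSfin : (genericPoints X₀).Finite := genericPoints.finite NoetherianSpace.finite_irreducibleComponents
  have hS : ∀ x ∉ genericPoints X₀, IsClosed ({x} : Set X₀) := fun x hx => Main.isClosed_of_notMem_genericPoints hd hx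
  have hV : ∀ x, x ∉ V → IsClosed ({x} : Set X₀) := fun x hx => hS x fun h => hx (hSV h)
  have hloc := fun t : {t : X₀ // t ∉ V} =>
    exists_local hb hL V e₀ he₀ hV _ hSfin hSV hS t t.2
  choose W₁ C₁ g₁ e₂ hV₁ htW₁ hCW₁ hCr₁ hg₁ he₂ hrel₁ using hloc
  haveI : Finite {t : X₀ // t ∉ V} :=
    (Local.finite_of_closedPoints ⊤ V.2.isClosed_compl (A := (V : Set X₀)ᶜ) (by simp) fun x hx => hV x hx).to_subtype
  -- make the closed parts disjoint
  obtain ⟨n, ⟨idx⟩⟩ := Finite.exists_equiv_fin {t : X₀ // t ∉ V}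
  let Lo : {t : X₀ // t ∉ V} → Closeds X := fun t =>
    ⟨⋃ s : {s // idx s < idx t}, (C₁ s.1 : Set X), isClosed_iUnion_of_finite fun s => (C₁ s.1).isClosed⟩
  have htC₁ : ∀ t, i t.1 ∈ C₁ t := fun t => ((Set.ext_iff.1 (hCr₁ t) (i t.1)).2 rfl).1
  have htLo : ∀ t, i t.1 ∉ Lo t := fun t h => by
    obtain ⟨⟨s, hs⟩, hts⟩ := Set.mem_iUnion.1 h
    have := (Set.ext_iff.1 (hCr₁ s) (i t.1)).1 ⟨hts, t.1, rfl⟩
    exact absurd hs (Subtype.ext (i.isClosedEmbedding.injective this) ▸ lt_irrefl _)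
  have hp : ∀ t, ((C₁ t : Set X) ∩ (Lo t : Set X)ᶜ) ∩ Set.range i.base = {i t.1} := fun t =>
    Set.Subset.antisymm (fun y hy => (hCr₁ t) ▸ ⟨hy.1.1, hy.2⟩)
      (Set.singleton_subset_iff.2 ⟨⟨htC₁ t, htLo t⟩, t.1, rfl⟩)
  choose O C hpO hC htC using fun t => hb.exists_part
    ((C₁ t).isClosed.isLocallyClosed.inter (Lo t).isClosed.isOpen_compl.isLocallyClosed) (hp t)
  have hC' : ∀ t y, y ∈ C t ↔ (y ∈ C₁ t ∧ y ∉ Lo t) ∧ y ∈ O t := fun t y => Set.ext_iff.1 (hC t) y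
  let W₀ : {t : X₀ // t ∉ V} → X.Opens := fun t => W₁ t ⊓ (O t ⊓ (Lo t).compl)
  have hle : ∀ t, W₀ t ⊓ (C t).compl ≤ W₁ t ⊓ (C₁ t).compl := fun t y hy =>
    ⟨hy.1.1, fun h => hy.2 ((hC' t y).2 ⟨⟨h, hy.1.2.2⟩, hy.1.2.1⟩)⟩
  let g₀ : ∀ t, Γ(X, W₀ t ⊓ (C t).compl) := fun t => rf (hle t) (g₁ t)
  have hg₀ : ∀ t, IsUnit (g₀ t) := fun t => (hg₁ t).map _
  let e₁ : ∀ t, Γ(L, i ⁻¹ᵁ W₀ t) := fun t => rs L (i.preimage_mono inf_le_left) (e₂ t)
  have he₁ : ∀ t, IsGen L (i ⁻¹ᵁ W₀ t) (e₁ t) := fun t => (he₂ t).res _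
  have hV₀ : ∀ t, i ⁻¹ᵁ (W₀ t ⊓ (C t).compl) ≤ V := fun t => (i.preimage_mono (hle t)).trans (hV₁ t)
  have hrel : ∀ t, rs L (i.preimage_mono inf_le_left) (e₁ t) =
      i.app (W₀ t ⊓ (C t).compl) (g₀ t) • rs L (hV₀ t) e₀ := fun t => by
    have := congrArg (rs L (i.preimage_mono (hle t))) (hrel₁ t)
    rw [rs_smul, rs_rs, rs_rs] at this
    show rs L _ (rs L _ (e₂ t)) = i.app _ (rf (hle t) (g₁ t)) • _
    rw [rs_rs, show i.app (W₀ t ⊓ (C t).compl) (rf (hle t) (g₁ t)) =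
      rf (i.preimage_mono (hle t)) (i.app (W₁ t ⊓ (C₁ t).compl) (g₁ t)) from
      ConcreteCategory.congr_hom (i.naturality (homOfLE (hle t)).op) (g₁ t)]
    exact this
  have htW : ∀ t, i t.1 ∈ W₀ t := fun t => ⟨htW₁ t, hpO t, htLo t⟩
  have hCW : ∀ t, (C t : Set X) ⊆ W₀ t := fun t y hy =>
    ⟨hCW₁ t ((hC' t y).1 hy).1.1, ((hC' t y).1 hy).2, ((hC' t y).1 hy).1.2⟩
  have hCr : ∀ t, (C t : Set X) ∩ Set.range i.base = {i t.1} := fun t =>
    Set.Subset.antisymm (fun y hy => (hCr₁ t) ▸ ⟨((hC' t y).1 hy.1).1.1, hy.2⟩)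
      (Set.singleton_subset_iff.2 ⟨htC t, t.1, rfl⟩)
  clear_value e₁ g₀
  clear_value W₀
  let CU : Set X := ⋃ t : {t : X₀ // t ∉ V}, (C t : Set X)
  have hCU : IsClosed CU := isClosed_iUnion_of_finite fun t => (C t).isClosed
  have hothers : ∀ t : {t : X₀ // t ∉ V}, IsClosed (⋃ s : {s // s ≠ t}, (C s.1 : Set X)) :=
    fun t => isClosed_iUnion_of_finite fun s => (C s.1).isClosed
  let B : X.Opens := ⟨CUᶜ, hCU.isOpen_compl⟩
  let U : Option {t : X₀ // t ∉ V} → X.Opens := fun o =>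
    match o with
    | none => B
    | some t => W₀ t ⊓ ⟨(⋃ s : {s // s ≠ t}, (C s.1 : Set X))ᶜ, (hothers t).isOpen_compl⟩
  have hdisjC : ∀ s t : {t : X₀ // t ∉ V}, s ≠ t → ∀ y ∈ C s, y ∉ C t := by
    intro s t hst y hys hyt
    obtain ⟨⟨hs1, hs2⟩, -⟩ := (hC' s y).1 hys
    obtain ⟨⟨ht1, ht2⟩, -⟩ := (hC' t y).1 hyt
    rcases lt_trichotomy (idx s) (idx t) with h | h | h
    · exact ht2 (Set.mem_iUnion.2 ⟨⟨s, h⟩, hs1⟩)
    · exact hst (idx.injective h)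
    · exact hs2 (Set.mem_iUnion.2 ⟨⟨t, h⟩, ht1⟩)
  have hU : iSup U = ⊤ := top_le_iff.1 fun y _ => Opens.mem_iSup.2 <| by
    by_cases hy : y ∈ CU
    · obtain ⟨t, ht⟩ := Set.mem_iUnion.1 hy
      refine ⟨some t, hCW t ht, fun h => ?_⟩
      obtain ⟨⟨s, hs⟩, hys⟩ := Set.mem_iUnion.1 h
      exact hdisjC s t hs y hys ht
    · exact ⟨none, hy⟩
  have hUB : ∀ t, U (some t) ⊓ B ≤ W₀ t ⊓ (C t).compl := fun t y hy =>
    ⟨hy.1.1, fun h => hy.2 (Set.mem_iUnion.2 ⟨t, h⟩)⟩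
  have hdisj : ∀ a b, a ≠ b → U a ⊓ U b ≤ B := by
    intro a b hab y hy
    match a, b, hab with
    | none, _, _ => exact hy.1
    | some _, none, _ => exact hy.2
    | some s, some t, hst =>
      intro hc
      obtain ⟨r, hr⟩ := Set.mem_iUnion.1 hc
      by_cases hrs : r = s
      · subst hrs
        exact hy.2.2 (Set.mem_iUnion.2 ⟨⟨r, fun h => hst (congrArg some h)⟩, hr⟩)
      · exact hy.1.2 (Set.mem_iUnion.2 ⟨⟨r, hrs⟩, hr⟩)
  let v : ∀ o, Γ(X, U o ⊓ B) := fun o =>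
    match o with
    | none => 1
    | some t => rf (hUB t) (g₀ t)
  have hv : ∀ o, IsUnit (v o) := fun o => by
    match o with
    | none => exact isUnit_one
    | some t => exact (hg₀ t).map _
  obtain ⟨c, hc⟩ := GlueLine.exists_cocycle hdisj (fun o => v o • one X (U o ⊓ B)) fun o => Main.isGen_unit (hv o)
  have hcv : ∀ (a b : Option {t : X₀ // t ∉ V}) (W : X.Opens) (ha : W ≤ U a) (hb' : W ≤ U b) (hB : W ≤ B),
      rf (le_inf hb' hB) (v b) = c.tr a b ha hb' * rf (le_inf ha hB) (v a) := by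
    intro a b W ha hb' hB
    have h := hc a b W ha hb' hB
    rw [rs_smul, rs_smul, smul_smul] at h
    have e : ∀ (W' : X.Opens) (h' : W ≤ W'), rs (Coh.structureModule X) h' (one X W') = one X W :=
      fun W' h' => map_one (X.presheaf.map (homOfLE h').op).hom
    rw [e, e] at h
    refine (Ample.GenLocus.isGen_one W W le_rfl).1 ?_
    simp only [rs_self]
    exact h
  refine ⟨GlueLine.glue c, GlueLine.isInvertible_glue c hU, ?_⟩
  have hBV : i ⁻¹ᵁ B ≤ V := fun s hs => by_contra fun hsV => hs (Set.mem_iUnion.2 ⟨⟨s, hsV⟩,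
    (Set.ext_iff.1 (hCr ⟨s, hsV⟩) (i s)).2 rfl |>.1⟩)
  let m : ∀ o, Γ(L, i ⁻¹ᵁ U o) := fun o =>
    match o with
    | none => rs L hBV e₀
    | some t => rs L (i.preimage_mono inf_le_left) (e₁ t)
  have hm : ∀ o, IsGen L (i ⁻¹ᵁ U o) (m o) := fun o => by
    match o with
    | none => exact he₀.res _
    | some t => exact (he₁ t).res _
  have key : ∀ o, rs L (i.preimage_mono inf_le_left) (m o) =
      i.app (U o ⊓ B) (v o) • rs L ((i.preimage_mono inf_le_right).trans hBV) e₀ := fun o => by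
    match o with
    | none =>
      show rs L _ (rs L hBV e₀) = i.app (B ⊓ B) 1 • _
      rw [map_one, one_smul, rs_rs]
    | some t =>
      have := congrArg (rs L (i.preimage_mono (hUB t))) (hrel t)
      rw [rs_smul, rs_rs, rs_rs] at this
      show rs L _ (rs L _ (e₁ t)) = i.app (U (some t) ⊓ B) (rf (hUB t) (g₀ t)) • _
      rw [rs_rs, show i.app (U (some t) ⊓ B) (rf (hUB t) (g₀ t)) =
        rf (i.preimage_mono (hUB t)) (i.app (W₀ t ⊓ (C t).compl) (g₀ t)) from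
        ConcreteCategory.congr_hom (i.naturality (homOfLE (hUB t)).op) (g₀ t)]
      exact this
  have hUpre : (⨆ o, i ⁻¹ᵁ U o) = ⊤ := by rw [← Scheme.Hom.preimage_iSup, hU]; rfl
  obtain ⟨φ, -⟩ := HomGlue.exists_iso_of_gen hUpre (fun o => unitSec i _ (GlueLine.gen c o))
    (fun o => Ample.GenLocus.isGen_unitSec i (GlueLine.isGen_gen c o)) m hm fun a b W ha hb' r hr => by
      let Z : X.Opens := U a ⊓ U b
      have hWZ : W ≤ i ⁻¹ᵁ Z := le_inf ha hb'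
      have h1 := congrArg (unitSec i _) (GlueLine.rs_gen c b a (inf_le_right : Z ≤ U b) (inf_le_left : Z ≤ U a))
      rw [Ample.GenLocus.unitSec_smul, ← Ample.GenLocus.unitSec_rs, ← Ample.GenLocus.unitSec_rs] at h1
      have h2 := congrArg (rs _ hWZ) h1
      rw [rs_smul, rs_rs, rs_rs] at h2
      have hrr : r = rf hWZ (i.app Z (c.tr b a inf_le_right inf_le_left)) :=
        ((Ample.GenLocus.isGen_unitSec i (GlueLine.isGen_gen c b)) W hb').1 (hr.symm.trans h2)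
      subst hrr
      by_cases hab : a = b
      · subst hab
        rw [c.tr_self, map_one, rf, map_one, one_smul]
      · let P : X.Opens := U a ⊓ U b
        have hPB : P ≤ B := hdisj a b hab
        have h3 := congrArg (i.app P) (hcv b a P inf_le_right inf_le_left hPB)
        rw [map_mul] at h3
        have hn : ∀ (o) (h : P ≤ U o ⊓ B), i.app P (rf h (v o)) = rf (i.preimage_mono h) (i.app (U o ⊓ B) (v o)) :=
          fun o h => ConcreteCategory.congr_hom (i.naturality (homOfLE h).op) (v o)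
        rw [hn, hn] at h3
        have hka := congrArg (rs L (i.preimage_mono (le_inf inf_le_left hPB : P ≤ U a ⊓ B))) (key a)
        have hkb := congrArg (rs L (i.preimage_mono (le_inf inf_le_right hPB : P ≤ U b ⊓ B))) (key b)
        rw [rs_smul, rs_rs, rs_rs] at hka hkb
        have h4 : rs L (i.preimage_mono (inf_le_left : P ≤ U a)) (m a) =
            i.app P (c.tr b a inf_le_right inf_le_left) • rs L (i.preimage_mono (inf_le_right : P ≤ U b)) (m b) := by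
          rw [hka, hkb, smul_smul, ← h3]
        have h5 := congrArg (rs L hWZ) h4
        rw [rs_smul, rs_rs, rs_rs] at h5
        exact h5
  exact ⟨φ⟩

end Groth.Agent.Lib.PicSurj.Split
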